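import Groth.Prelude.Def_Red2
import Mathlib

/-! The power map of the group algebra of `ℤ` is flat and of finite presentation. -/

universe u

open CategoryTheory AlgebraicGeometry

namespace Groth.Agent.Kummer

variable (R : Type u) [CommRing R] (n : ℕ)

/-- `T ↦ T ^ n`. -/
noncomputable def powHom : MonoidAlgebra R (Multiplicative ℤ) →+* MonoidAlgebra R (Multiplicative ℤ) :=
  (MonoidAlgebra.mapDomainAlgHom R R
    (AddMonoidHom.toMultiplicative (zmultiplesHom ℤ (n : ℤ)))).toRingHom

theorem powHom_single (q : ℤ) (r : R) :
    powHom R n (MonoidAlgebra.single (Multiplicative.ofAdd q) r) =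
      MonoidAlgebra.single (Multiplicative.ofAdd (q * n)) r := by
  simp [powHom]

/-- The group algebra, as an algebra over itself through `powHom`. -/
def PowAlg (_ : ℕ) : Type u := MonoidAlgebra R (Multiplicative ℤ)

noncomputable instance : CommRing (PowAlg R n) :=
  inferInstanceAs (CommRing (MonoidAlgebra R (Multiplicative ℤ)))

noncomputable instance : Algebra (MonoidAlgebra R (Multiplicative ℤ)) (PowAlg R n) :=
  RingHom.toAlgebra (powHom R n)

theorem exists_fin_free (hn : 0 < n) :
    Module.Free (MonoidAlgebra R (Multiplicative ℤ)) (PowAlg R n) ∧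
      Module.Finite (MonoidAlgebra R (Multiplicative ℤ)) (PowAlg R n) := by
  let A := MonoidAlgebra R (Multiplicative ℤ)
  let t₀ : Fin n → A := fun i => MonoidAlgebra.single (Multiplicative.ofAdd (i.1 : ℤ)) 1
  let t : Fin n → PowAlg R n := t₀
  have hmul : ∀ (a : A) (i : Fin n), a • t i = (powHom R n a * t₀ i : A) := fun a i => rfl
  have key : ∀ (a : A) (i j : Fin n) (q : ℤ),
      (powHom R n a * t₀ i).coeff (Multiplicative.ofAdd (q * n + j.1)) =
        if i = j then a.coeff (Multiplicative.ofAdd q) else 0 := by
    intro a i j q
    simp only [t₀]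
    induction a using MonoidAlgebra.induction_linear with
    | zero => simp
    | add a b ha hb =>
      simp only [map_add, add_mul, MonoidAlgebra.coeff_add, Finsupp.add_apply, ha, hb]
      split_ifs <;> simp
    | single m r =>
      obtain ⟨m, rfl⟩ : ∃ k, Multiplicative.ofAdd k = m := ⟨Multiplicative.toAdd m, rfl⟩
      rw [powHom_single, MonoidAlgebra.single_mul_single, mul_one, ← ofAdd_add]
      simp only [MonoidAlgebra.coeff_single, Finsupp.single_apply, EmbeddingLike.apply_eq_iff_eq]
      have hi := i.2
      have hj := j.2
      by_cases hij : i = j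
      · subst hij
        rw [if_pos rfl]
        have : (m * n + (i.1 : ℤ) = q * n + i.1) ↔ m = q := by
          constructor
          · intro h
            exact mul_right_cancel₀ (by omega : (n : ℤ) ≠ 0) (by linarith)
          · rintro rfl; rfl
        simp only [this]
      · rw [if_neg hij, if_neg]
        intro h
        apply hij
        apply Fin.ext
        have h1 : (i.1 : ℤ) = (m * n + i.1) % n := by
          rw [Int.add_emod, Int.mul_emod_left, zero_add, Int.emod_emod_of_dvd _ dvd_rfl,
            Int.emod_eq_of_lt (by omega) (by omega)]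
        have h2 : (j.1 : ℤ) = (q * n + j.1) % n := by
          rw [Int.add_emod, Int.mul_emod_left, zero_add, Int.emod_emod_of_dvd _ dvd_rfl,
            Int.emod_eq_of_lt (by omega) (by omega)]
        rw [h, ← h2] at h1
        exact_mod_cast h1
  have hli : LinearIndependent A t := by
    rw [Fintype.linearIndependent_iff]
    intro g hg j
    apply MonoidAlgebra.coeff_injective
    ext k
    obtain ⟨q, rfl⟩ : ∃ q, Multiplicative.ofAdd q = k := ⟨Multiplicative.toAdd k, rfl⟩
    have hg' : ∑ i, (powHom R n (g i) * t₀ i : A) = (0 : A) := hg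
    have h := congrArg (fun p : A => p.coeff (Multiplicative.ofAdd (q * n + j.1))) hg'
    simp only [MonoidAlgebra.coeff_sum, Finsupp.finsetSum_apply, key, MonoidAlgebra.coeff_zero,
      Finsupp.zero_apply, Finset.sum_ite_eq', Finset.mem_univ, if_true] at h
    simpa using h
  have hsp : ⊤ ≤ Submodule.span A (Set.range t) := by
    intro a _
    change A at a
    induction a using MonoidAlgebra.induction_linear with
    | zero => exact zero_mem _
    | add a b ha hb => exact add_mem (ha trivial) (hb trivial)
    | single m r =>
      obtain ⟨m, rfl⟩ : ∃ k, Multiplicative.ofAdd k = m := ⟨Multiplicative.toAdd m, rfl⟩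
      have h1 : 0 ≤ m % n := Int.emod_nonneg _ (by omega)
      have h2 : m % n < n := Int.emod_lt_of_pos _ (by omega)
      let i : Fin n := ⟨(m % n).toNat, by omega⟩
      have e : MonoidAlgebra.single (Multiplicative.ofAdd m) r =
          MonoidAlgebra.single (Multiplicative.ofAdd (m / n)) r • t i := by
        rw [hmul]
        simp only [t₀]
        rw [powHom_single, MonoidAlgebra.single_mul_single, mul_one, ← ofAdd_add]
        congr 2
        show m = m / n * n + ((m % n).toNat : ℤ)
        rw [Int.toNat_of_nonneg h1, mul_comm]
        exact (Int.mul_ediv_add_emod m n).symm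
      rw [e]
      exact Submodule.smul_mem _ _ (Submodule.subset_span ⟨i, rfl⟩)
  exact ⟨Module.Free.of_basis (Module.Basis.mk hli hsp), Module.Finite.of_basis (Module.Basis.mk hli hsp)⟩

theorem powMap_props [Nontrivial R] (hn : 0 < n) :
    Flat (Spec.map (CommRingCat.ofHom (powHom R n))) ∧
      LocallyOfFinitePresentation (Spec.map (CommRingCat.ofHom (powHom R n))) ∧
      Surjective (Spec.map (CommRingCat.ofHom (powHom R n))) := by
  let A := MonoidAlgebra R (Multiplicative ℤ)
  obtain ⟨hfree, hfin⟩ := exists_fin_free R n hn
  have : Module.FinitePresentation A (PowAlg R n) := Module.finitePresentation_of_projective A (PowAlg R n)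
  have : Algebra.FinitePresentation A (PowAlg R n) := Algebra.FinitePresentation.of_finitePresentation _ _
  refine ⟨?_, ?_, ⟨fun p => ?_⟩⟩
  · rw [HasRingHomProperty.Spec_iff (P := @Flat), CommRingCat.hom_ofHom]
    exact (RingHom.flat_algebraMap_iff (R := A) (S := PowAlg R n)).2 inferInstance
  · rw [HasRingHomProperty.Spec_iff (P := @LocallyOfFinitePresentation), CommRingCat.hom_ofHom]
    exact (RingHom.finitePresentation_algebraMap (A := A) (B := PowAlg R n)).2 inferInstance
  · have : Nontrivial (PowAlg R n) := inferInstanceAs (Nontrivial A)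
    exact PrimeSpectrum.comap_surjective_of_faithfullyFlat (A := A) (B := PowAlg R n) p

end Groth.Agent.Kummer
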