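import Groth.Agent.Kummer.Points
import Groth.Agent.Kummer.PowMap
import Groth.Prelude.Def_NonAbH2

/-! The Kummer sequence. -/

suppress_compilation
universe u

open CategoryTheory MonoidalCategory CartesianMonoidalCategory MonObj GrpObj AlgebraicGeometry Limits
open scoped CategoryTheory.Obj

namespace Groth.Agent.Kummer

variable {S : Scheme.{u}} (n : ℕ)

theorem toMultiplicative_cast (k : ℤ) :
    AddMonoidHom.toMultiplicative (Int.castAddHom (ZMod n)) (Multiplicative.ofAdd k) =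
      Multiplicative.ofAdd (k : ZMod n) := rfl

theorem comp_eq_one : Red.DSmap S (Int.castAddHom (ZMod n)) ≫ Red.chi S (n : ℤ) = 1 := by
  apply chr_injective
  rw [Red.chi, ← Category.id_comp (Red.DSmap S (Int.castAddHom (ZMod n))), Category.assoc,
    Category.id_comp, chr_DSmap, chr_one]
  refine MonoidHom.ext_mint ?_
  rw [MonoidHom.comp_apply, MonoidHom.one_apply]
  rw [show Red.DSmap S (Int.castAddHom (ZMod n)) = 𝟙 _ ≫ Red.DSmap S (Int.castAddHom (ZMod n)) from
    (Category.id_comp _).symm, chr_DSmap, MonoidHom.comp_apply]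
  have h : AddMonoidHom.toMultiplicative (Int.castAddHom (ZMod n))
      (AddMonoidHom.toMultiplicative (zmultiplesHom ℤ (n : ℤ)) (Multiplicative.ofAdd 1)) = 1 := by
    simp
  rw [h, map_one]

variable {n}

theorem chr_comp_chi {X : Over S} (x : X ⟶ Red.Gm S) :
    chr (x ≫ Red.chi S (n : ℤ)) (Multiplicative.ofAdd 1) = chr x (Multiplicative.ofAdd (n : ℤ)) := by
  rw [Red.chi, chr_DSmap, MonoidHom.comp_apply]
  congr 1
  simp

theorem exists_lift {X : Over S} (c : X ⟶ Red.Gm S) (hc : c ≫ Red.chi S (n : ℤ) = 1) :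
    ∃ z : X ⟶ Red.DS S (ZMod n), z ≫ Red.DSmap S (Int.castAddHom (ZMod n)) = c := by
  have h1 : chr c (Multiplicative.ofAdd (n : ℤ)) = 1 := by
    rw [← chr_comp_chi, hc, chr_one, MonoidHom.one_apply]
  let U := (chr c).toHomUnits
  have hU : (MonoidHom.toAdditiveRight U) (n : ℤ) = 0 := by
    have : U (Multiplicative.ofAdd (n : ℤ)) = 1 := Units.ext h1
    exact congrArg Additive.ofMul this
  let L : ZMod n →+ Additive Γ(X.left, ⊤)ˣ := ZMod.lift n ⟨MonoidHom.toAdditiveRight U, hU⟩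
  obtain ⟨z, hz⟩ := exists_chr (S := S) (X := X) (M := ZMod n)
    ((Units.coeHom _).comp (AddMonoidHom.toMultiplicativeLeft L))
  refine ⟨z, chr_injective ?_⟩
  rw [chr_DSmap, hz]
  refine MonoidHom.ext fun m => ?_
  obtain ⟨k, rfl⟩ : ∃ k, Multiplicative.ofAdd k = m := ⟨Multiplicative.toAdd m, rfl⟩
  rw [MonoidHom.comp_apply, toMultiplicative_cast, MonoidHom.comp_apply]
  show ((L (k : ZMod n)).toMul : Γ(X.left, ⊤)ˣ).val = _
  rw [ZMod.lift_coe]
  rfl

theorem DSmap_cancel {X : Over S} {z z' : X ⟶ Red.DS S (ZMod n)}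
    (h : z ≫ Red.DSmap S (Int.castAddHom (ZMod n)) = z' ≫ Red.DSmap S (Int.castAddHom (ZMod n))) : z = z' := by
  apply chr_injective
  refine MonoidHom.ext fun m => ?_
  obtain ⟨k, hk⟩ := ZMod.intCast_surjective (Multiplicative.toAdd m)
  have e := congrArg (fun f => chr f (Multiplicative.ofAdd k)) h
  simp only [chr_DSmap, MonoidHom.comp_apply, toMultiplicative_cast, hk] at e
  exact e

theorem comp_mul' {X Y G : Over S} [GrpObj G] (f : X ⟶ Y) (a b : Y ⟶ G) :
    f ≫ (a * b) = (f ≫ a) * (f ≫ b) := MonObj.comp_mul f a b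

theorem isPullback :
    IsPullback (CartesianMonoidalCategory.fst (Red.Gm S) (Red.DS S (ZMod n)))
      ((Red.Gm S ◁ Red.DSmap S (Int.castAddHom (ZMod n))) ≫ μ[Red.Gm S])
      (Red.chi S (n : ℤ)) (Red.chi S (n : ℤ)) := by
  let u := Red.DSmap S (Int.castAddHom (ZMod n))
  let v := Red.chi S (n : ℤ)
  let p := CartesianMonoidalCategory.fst (Red.Gm S) (Red.DS S (ZMod n))
  let q := CartesianMonoidalCategory.snd (Red.Gm S) (Red.DS S (ZMod n))
  have hq : (Red.Gm S ◁ u) ≫ μ[Red.Gm S] = p * (q ≫ u) := by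
    rw [Hom.mul_def]
    congr 1

  have hv : ∀ {X : Over S} (a b : X ⟶ Red.Gm S), (a * b) ≫ v = (a ≫ v) * (b ≫ v) := fun a b =>
    mul_comp_DSmap a b _
  have huv : u ≫ v = 1 := comp_eq_one n
  rw [hq]
  have comm : p ≫ v = (p * (q ≫ u)) ≫ v := by
    rw [hv, Category.assoc, huv, MonObj.comp_one, _root_.mul_one]
  have hlift : ∀ s : PullbackCone v v, ∃ z : s.pt ⟶ Red.DS S (ZMod n), z ≫ u = s.fst⁻¹ * s.snd := fun s => by
    refine exists_lift _ ?_
    have hinv : (s.fst⁻¹ ≫ v) * (s.fst ≫ v) = 1 := by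
      rw [← hv, inv_mul_cancel]
      exact one_comp_DSmap _
    rw [hv, ← s.condition]
    exact hinv
  choose z hz using hlift
  refine ⟨⟨comm⟩, ⟨PullbackCone.IsLimit.mk _ (fun s => CartesianMonoidalCategory.lift s.fst (z s))
    (fun s => CartesianMonoidalCategory.lift_fst _ _) (fun s => ?_) (fun s m hm1 hm2 => ?_)⟩⟩
  · refine (MonObj.comp_mul _ _ _).trans ?_
    erw [← Category.assoc, CartesianMonoidalCategory.lift_fst, CartesianMonoidalCategory.lift_snd, hz, mul_inv_cancel_left]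
  · apply CartesianMonoidalCategory.hom_ext
    · exact hm1.trans (CartesianMonoidalCategory.lift_fst _ _).symm
    · refine (DSmap_cancel ?_).trans (CartesianMonoidalCategory.lift_snd _ _).symm
      rw [hz, eq_inv_mul_iff_mul_eq, ← hm1, Category.assoc, ← comp_mul']
      exact hm2

theorem isPullback_DSmap {M N : Type} [AddCommGroup M] [AddCommGroup N] (φ : M →+ N) :
    IsPullback (pullback.fst (Red.diag (ULift.{u} ℤ) N).hom (IsTerminal.from specULiftZIsTerminal S))
      (Red.DSmap S φ).left (Red.diagMap (ULift.{u} ℤ) φ).left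
      (pullback.fst (Red.diag (ULift.{u} ℤ) M).hom (IsTerminal.from specULiftZIsTerminal S)) := by
  have h1 : (Red.DSmap S φ).left ≫ pullback.snd _ _ = pullback.snd _ _ := Over.w (Red.DSmap S φ)
  have h2 : (Red.DSmap S φ).left ≫ pullback.fst _ _ =
      pullback.fst _ _ ≫ (Red.diagMap (ULift.{u} ℤ) φ).left := pullback.lift_fst _ _ _
  have big : IsPullback ((Red.DSmap S φ).left ≫ pullback.snd _ _)
      (pullback.fst (Red.diag (ULift.{u} ℤ) N).hom (IsTerminal.from specULiftZIsTerminal S))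
      (IsTerminal.from specULiftZIsTerminal S)
      ((Red.diagMap (ULift.{u} ℤ) φ).left ≫ (Red.diag (ULift.{u} ℤ) M).hom) := by
    rw [h1, Over.w]
    exact (IsPullback.of_hasPullback _ _).flip
  exact (IsPullback.of_right big h2 (IsPullback.of_hasPullback _ _).flip).flip

theorem isExactSeq (hn : 0 < n) :
    NonAbH1.IsExactSeq Scheme.fppfPrecoverage
      (Red.DSmap S (Int.castAddHom (ZMod n))) (Red.chi S (n : ℤ)) := by
  refine ⟨isMonHom_DSmap _, isMonHom_DSmap _, comp_eq_one n, isPullback, Presieve.singleton (Red.chi S (n : ℤ)).left, ?_, ?_⟩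
  · have sq := isPullback_DSmap (S := S) (zmultiplesHom ℤ (n : ℤ))
    have hdef : (Red.diagMap (ULift.{u} ℤ) (zmultiplesHom ℤ (n : ℤ))).left =
        Spec.map (CommRingCat.ofHom (powHom (ULift.{u} ℤ) n)) := rfl
    rw [hdef] at sq
    obtain ⟨h1, h2, h3⟩ := powMap_props (ULift.{u} ℤ) n hn
    have a1 : Flat (Red.chi S (n : ℤ)).left := MorphismProperty.of_isPullback sq h1
    have a2 : LocallyOfFinitePresentation (Red.chi S (n : ℤ)).left := MorphismProperty.of_isPullback sq h2
    have a3 : Surjective (Red.chi S (n : ℤ)).left := MorphismProperty.of_isPullback sq h3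
    rw [Scheme.fppfPrecoverage, Scheme.singleton_mem_precoverage_iff]
    exact ⟨a3.surj, a1, a2⟩
  · rintro S' f hf
    cases hf
    exact ⟨𝟙 _, Category.id_comp _⟩

end Groth.Agent.Kummer
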