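import Groth.Agent.RedPts.Coord

/-! Points of `D_S(M)` with values in any scheme, and `D_S` of a homomorphism. -/

suppress_compilation
universe u

open CategoryTheory MonoidalCategory CartesianMonoidalCategory MonObj GrpObj AlgebraicGeometry Limits WithConv
open scoped CategoryTheory.Obj TensorProduct

namespace Groth.Agent.Kummer

open Groth.Agent.RedPts
open Groth.Agent.GmChar (zlAlg zl_commutes)

attribute [-instance] ULift.module

variable {S : Scheme.{u}} {M N : Type} [AddCommGroup M] [AddCommGroup N] {X : Over S}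

/-- The character of a point of `D_S(M)`. -/
def chr (x : X ⟶ Red.DS S M) : Multiplicative M →* Γ(X.left, ⊤) :=
  (ptRing (H := MonoidAlgebra Z.{u} (Multiplicative M)) x).toMonoidHom.comp
    (MonoidAlgebra.of Z.{u} (Multiplicative M))

theorem chr_apply (x : X ⟶ Red.DS S M) (m : Multiplicative M) :
    chr x m = ptRing (H := MonoidAlgebra Z.{u} (Multiplicative M)) x (MonoidAlgebra.single m 1) := rfl

theorem chr_mul (x y : X ⟶ Red.DS S M) : chr (x * y) = chr x * chr y := by
  let := zlAlg Γ(X.left, ⊤)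
  refine MonoidHom.ext fun m => ?_
  have h := congrArg (fun f : WithConv (MonoidAlgebra Z.{u} (Multiplicative M) →ₐ[Z.{u}] Γ(X.left, ⊤)) =>
    f.ofConv (MonoidAlgebra.single m 1)) (ptAlg_mul (H := MonoidAlgebra Z.{u} (Multiplicative M)) x y)
  rw [MonoidHom.mul_apply, chr_apply, chr_apply, chr_apply]
  refine h.trans ?_
  simp [AlgHom.convMul_def]
  rfl

theorem chr_injective : Function.Injective (chr : (X ⟶ Red.DS S M) → _) := by
  intro x y h
  refine ptRing_injective (H := MonoidAlgebra Z.{u} (Multiplicative M)) ?_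
  let := zlAlg Γ(X.left, ⊤)
  suffices ptAlg (H := MonoidAlgebra Z.{u} (Multiplicative M)) x = ptAlg y from congrArg (·.toRingHom) this
  apply (MonoidAlgebra.lift Z.{u} Γ(X.left, ⊤) (Multiplicative M)).symm.injective
  exact MonoidHom.ext fun m => congr($h m)

theorem exists_chr (F : Multiplicative M →* Γ(X.left, ⊤)) : ∃ x : X ⟶ Red.DS S M, chr x = F := by
  let := zlAlg Γ(X.left, ⊤)
  let φ := MonoidAlgebra.lift Z.{u} Γ(X.left, ⊤) (Multiplicative M) F
  obtain ⟨x, hx⟩ := exists_ptRing (S := S) (X := X) (H := MonoidAlgebra Z.{u} (Multiplicative M)) φ.toRingHom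
  refine ⟨x, MonoidHom.ext fun m => ?_⟩
  rw [chr_apply, show ptRing (H := MonoidAlgebra Z.{u} (Multiplicative M)) x = _ from hx]
  show φ _ = _
  simp [φ]
  rw [Algebra.smul_def, map_one, _root_.one_mul]

theorem chr_one : chr (1 : X ⟶ Red.DS S M) = 1 := by
  obtain ⟨x, hx⟩ := exists_chr (S := S) (X := X) (M := M) 1
  have h := chr_mul x (1 : X ⟶ Red.DS S M)
  rw [_root_.mul_one, hx, _root_.one_mul] at h
  exact h.symm

theorem chr_DSmap (x : X ⟶ Red.DS S N) (φ : M →+ N) :
    chr (x ≫ Red.DSmap S φ) = (chr x).comp (AddMonoidHom.toMultiplicative φ) := by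
  refine MonoidHom.ext fun m => ?_
  rw [MonoidHom.comp_apply, chr_apply, chr_apply]
  have h : ptRing (H := MonoidAlgebra Z.{u} (Multiplicative M)) (x ≫ Red.DSmap S φ) =
      (ptRing (H := MonoidAlgebra Z.{u} (Multiplicative N)) x).comp
        (MonoidAlgebra.mapDomainAlgHom Z.{u} Z.{u} (AddMonoidHom.toMultiplicative φ)).toRingHom := by
    let f : MonoidAlgebra Z.{u} (Multiplicative M) →+* MonoidAlgebra Z.{u} (Multiplicative N) :=
      (MonoidAlgebra.mapDomainAlgHom Z.{u} Z.{u} (AddMonoidHom.toMultiplicative φ)).toRingHom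
    have e : (x ≫ Red.DSmap S φ).left ≫ pullback.fst _ _ =
        (x.left ≫ pullback.fst _ _) ≫ Spec.map (CommRingCat.ofHom f) := by
      show (x.left ≫ pullback.lift (pullback.fst _ _ ≫ _) (pullback.snd _ _) _) ≫ pullback.fst _ _ = _
      rw [Category.assoc, pullback.lift_fst, Category.assoc]
      rfl
    have e2 : (Scheme.ΓSpecIso (CommRingCat.of (MonoidAlgebra Z.{u} (Multiplicative M)))).inv ≫
        Scheme.Hom.appTop (show X.left ⟶ Spec (CommRingCat.of (MonoidAlgebra Z.{u} (Multiplicative M))) from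
          (x.left ≫ pullback.fst _ _) ≫ Spec.map (CommRingCat.ofHom f)) =
        CommRingCat.ofHom f ≫ (Scheme.ΓSpecIso (CommRingCat.of (MonoidAlgebra Z.{u} (Multiplicative N)))).inv ≫
          Scheme.Hom.appTop (show X.left ⟶ Spec (CommRingCat.of (MonoidAlgebra Z.{u} (Multiplicative N))) from
            x.left ≫ pullback.fst _ _) := by
      rw [Scheme.Hom.comp_appTop]
      exact (Scheme.ΓSpecIso_inv_naturality_assoc (CommRingCat.ofHom f) _).symm
    have e3 : ∀ (g g' : X.left ⟶ Spec (CommRingCat.of (MonoidAlgebra Z.{u} (Multiplicative M)))), g = g' →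
        ((Scheme.ΓSpecIso (CommRingCat.of (MonoidAlgebra Z.{u} (Multiplicative M)))).inv ≫ g.appTop).hom =
        ((Scheme.ΓSpecIso (CommRingCat.of (MonoidAlgebra Z.{u} (Multiplicative M)))).inv ≫ g'.appTop).hom :=
      fun g g' h => by rw [h]
    exact (e3 _ _ e).trans (congrArg CommRingCat.Hom.hom e2)
  rw [h]
  simp

theorem mul_comp_DSmap (x y : X ⟶ Red.DS S N) (φ : M →+ N) :
    (x * y) ≫ Red.DSmap S φ = (x ≫ Red.DSmap S φ) * (y ≫ Red.DSmap S φ) := by
  apply chr_injective
  rw [chr_mul, chr_DSmap, chr_DSmap, chr_DSmap, chr_mul, MonoidHom.mul_comp]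

theorem one_comp_DSmap (φ : M →+ N) : (1 : X ⟶ Red.DS S N) ≫ Red.DSmap S φ = 1 := by
  apply chr_injective
  rw [chr_one, chr_DSmap, chr_one, MonoidHom.one_comp]

theorem isMonHom_DSmap (φ : M →+ N) : IsMonHom (Red.DSmap S φ) where
  one_hom := by
    have h : η[Red.DS S N] = (1 : 𝟙_ (Over S) ⟶ Red.DS S N) := by
      rw [Hom.one_def, toUnit_unique (toUnit (𝟙_ (Over S))) (𝟙 _), Category.id_comp]
    have h' : η[Red.DS S M] = (1 : 𝟙_ (Over S) ⟶ Red.DS S M) := by
      rw [Hom.one_def, toUnit_unique (toUnit (𝟙_ (Over S))) (𝟙 _), Category.id_comp]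
    rw [h, h']
    exact one_comp_DSmap φ
  mul_hom := by
    have h := mul_comp_DSmap (CartesianMonoidalCategory.fst (Red.DS S N) (Red.DS S N))
      (CartesianMonoidalCategory.snd (Red.DS S N) (Red.DS S N)) φ
    rw [Hom.mul_def, Hom.mul_def, lift_fst_snd, Category.id_comp, lift_fst_comp_snd_comp] at h
    exact h

theorem isUnit_chr (x : X ⟶ Red.DS S M) (m : Multiplicative M) : IsUnit (chr x m) :=
  (Group.isUnit m).map (chr x)

end Groth.Agent.Kummer
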